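import Cfsg.Agent.H16.P.He.D

/-! Generated by tools/h16 (computation kit). -/

set_option maxRecDepth 100000
set_option maxHeartbeats 0

namespace H16.PHe

theorem ivc : ivChk Rl (nat_lit 7) = true := by decide +kernel
theorem tcte_0_0 : allZ (ent2 Tt Et (selR RLt It) Dt (nat_lit 8191) (nat_lit 2058) (nat_lit 2058) (nat_lit 5095) (nat_lit 7) (nat_lit 65535) (nat_lit 4) (nat_lit 0)) (nat_lit 0) (nat_lit 5095) = true := by decide +kernel
theorem tcte_1_0 : allZ (ent2 Tt Et (selR RLt It) Dt (nat_lit 8191) (nat_lit 2058) (nat_lit 2058) (nat_lit 5095) (nat_lit 7) (nat_lit 65535) (nat_lit 4) (nat_lit 1)) (nat_lit 0) (nat_lit 5095) = true := by decide +kernel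
theorem tcte_2_0 : allZ (ent2 Tt Et (selR RLt It) Dt (nat_lit 8191) (nat_lit 2058) (nat_lit 2058) (nat_lit 5095) (nat_lit 7) (nat_lit 65535) (nat_lit 4) (nat_lit 2)) (nat_lit 0) (nat_lit 5095) = true := by decide +kernel
theorem tcte_3_0 : allZ (ent2 Tt Et (selR RLt It) Dt (nat_lit 8191) (nat_lit 2058) (nat_lit 2058) (nat_lit 5095) (nat_lit 7) (nat_lit 65535) (nat_lit 4) (nat_lit 3)) (nat_lit 0) (nat_lit 5095) = true := by decide +kernel
theorem tcte_4_0 : allZ (ent2 Tt Et (selR RLt It) Dt (nat_lit 8191) (nat_lit 2058) (nat_lit 2058) (nat_lit 5095) (nat_lit 7) (nat_lit 65535) (nat_lit 4) (nat_lit 4)) (nat_lit 0) (nat_lit 5095) = true := by decide +kernel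
theorem tcte_5_0 : allZ (ent2 Tt Et (selR RLt It) Dt (nat_lit 8191) (nat_lit 2058) (nat_lit 2058) (nat_lit 5095) (nat_lit 7) (nat_lit 65535) (nat_lit 4) (nat_lit 5)) (nat_lit 0) (nat_lit 5095) = true := by decide +kernel
theorem tcte_6_0 : allZ (ent2 Tt Et (selR RLt It) Dt (nat_lit 8191) (nat_lit 2058) (nat_lit 2058) (nat_lit 5095) (nat_lit 7) (nat_lit 65535) (nat_lit 4) (nat_lit 6)) (nat_lit 0) (nat_lit 5095) = true := by decide +kernel
theorem tctp_0 : allZ (eps2 Tt Et Jt Wt RLt (nat_lit 8191) (nat_lit 2058) (nat_lit 5095) (nat_lit 7) (nat_lit 4)) (nat_lit 0) (nat_lit 3037) = true := by decide +kernel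
theorem tctr : rulesChk Rl ct.Sl RLt (nat_lit 7) = true := by decide +kernel
theorem tctn : 0 < ct.M ∧ ct.n0 ≤ ct.M ∧ 0 < ct.K ∧ ct.K ≤ 7 ∧ ct.D 0 = 0 := by decide +kernel
theorem tctq : ct.M - ct.n = 3037 := by decide +kernel
theorem ptc_0 : allZ (ptChk P ivf (nat_lit 2058) (nat_lit 7) (nat_lit 7) XW Jb) (nat_lit 0) (nat_lit 576) = true := by decide +kernel
theorem ptc_1 : allZ (ptChk P ivf (nat_lit 2058) (nat_lit 7) (nat_lit 7) XW Jb) (nat_lit 576) (nat_lit 576) = true := by decide +kernel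
theorem ptc_2 : allZ (ptChk P ivf (nat_lit 2058) (nat_lit 7) (nat_lit 7) XW Jb) (nat_lit 1152) (nat_lit 576) = true := by decide +kernel
theorem ptc_3 : allZ (ptChk P ivf (nat_lit 2058) (nat_lit 7) (nat_lit 7) XW Jb) (nat_lit 1728) (nat_lit 330) = true := by decide +kernel
theorem jbc : jobsOK Rl 7 7 XW Jb ∧ ∀ k < 7, ivf k = ivOf Rl k := by decide +kernel
theorem subx : subChk σx Rl Rlx ixx = true := by decide +kernel
theorem ivcx : ivChk Rlx (nat_lit 5) = true := by decide +kernel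
theorem tcxe_a : allZ2 (ent2 Tx Ex (selR RLx Ix) Dx (nat_lit 127) (nat_lit 109) (nat_lit 0) (nat_lit 110) (nat_lit 5) (nat_lit 1023) (nat_lit 1)) (nat_lit 5) (nat_lit 110) = true := by decide +kernel
theorem tcxp_0 : allZ (eps2 Tx Ex Jx Wx RLx (nat_lit 127) (nat_lit 109) (nat_lit 110) (nat_lit 5) (nat_lit 1)) (nat_lit 0) (nat_lit 1) = true := by decide +kernel
theorem tcxr : rulesChk Rlx cx.Sl RLx (nat_lit 5) = true := by decide +kernel
theorem tcxn : 0 < cx.M ∧ cx.n0 ≤ cx.M ∧ 0 < cx.K ∧ cx.K ≤ 5 ∧ cx.D 0 = 0 := by decide +kernel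
theorem tcxq : cx.M - cx.n = 1 := by decide +kernel
theorem glx : cx.Sl = [] ∧ allL cx.goal Nwx = true := by decide +kernel
theorem eqx1 : Rl ++ Nwx.map (rlW σx) = Rx1 := by decide +kernel
theorem ivx1 : ivChk Rx1 (nat_lit 7) = true := by decide +kernel
theorem tcm4e_a : allZ2 (ent2 Tm4 Em4 (selR RLm4 Im4) Dm4 (nat_lit 255) (nat_lit 168) (nat_lit 168) (nat_lit 168) (nat_lit 4) (nat_lit 1023) (nat_lit 0)) (nat_lit 4) (nat_lit 168) = true := by decide +kernel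
theorem tcm4p_0 : allZ (eps2 Tm4 Em4 Jm4 Wm4 RLm4 (nat_lit 255) (nat_lit 168) (nat_lit 168) (nat_lit 4) (nat_lit 0)) (nat_lit 0) (nat_lit 0) = true := by decide +kernel
theorem tcm4r : rulesChk Rx1 cm4.Sl RLm4 (nat_lit 4) = true := by decide +kernel
theorem tcm4n : 0 < cm4.M ∧ cm4.n0 ≤ cm4.M ∧ 0 < cm4.K ∧ cm4.K ≤ 7 ∧ cm4.D 0 = 0 := by decide +kernel
theorem tcm4q : cm4.M - cm4.n = 0 := by decide +kernel
theorem stm4 : allL (ltAll 0) cm4.Sl = true ∧ 0 < cm4.n0 ∧ cm4.K = 4 ∧ cm4.n0 * 1 = 168 := by decide +kernel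
theorem tcm6e_a : allZ2 (ent2 Tm6 Em6 (selR RLm6 Im6) Dm6 (nat_lit 511) (nat_lit 480) (nat_lit 480) (nat_lit 488) (nat_lit 6) (nat_lit 4095) (nat_lit 1)) (nat_lit 6) (nat_lit 488) = true := by decide +kernel
theorem tcm6p_0 : allZ (eps2 Tm6 Em6 Jm6 Wm6 RLm6 (nat_lit 511) (nat_lit 480) (nat_lit 488) (nat_lit 6) (nat_lit 1)) (nat_lit 0) (nat_lit 8) = true := by decide +kernel
theorem tcm6r : rulesChk Rx1 cm6.Sl RLm6 (nat_lit 6) = true := by decide +kernel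
theorem tcm6n : 0 < cm6.M ∧ cm6.n0 ≤ cm6.M ∧ 0 < cm6.K ∧ cm6.K ≤ 7 ∧ cm6.D 0 = 0 := by decide +kernel
theorem tcm6q : cm6.M - cm6.n = 8 := by decide +kernel
theorem stm6 : allL (ltAll 4) cm6.Sl = true ∧ 0 < cm6.n0 ∧ cm6.K = 6 ∧ cm6.n0 * 168 = 80640 := by decide +kernel
theorem tcm7e_0_0 : allZ (ent2 Tm7 Em7 (selR RLm7 Im7) Dm7 (nat_lit 65535) (nat_lit 49980) (nat_lit 49980) (nat_lit 50344) (nat_lit 7) (nat_lit 524287) (nat_lit 1) (nat_lit 0)) (nat_lit 0) (nat_lit 11136) = true := by decide +kernel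
theorem tcm7e_0_1 : allZ (ent2 Tm7 Em7 (selR RLm7 Im7) Dm7 (nat_lit 65535) (nat_lit 49980) (nat_lit 49980) (nat_lit 50344) (nat_lit 7) (nat_lit 524287) (nat_lit 1) (nat_lit 0)) (nat_lit 11136) (nat_lit 11136) = true := by decide +kernel
theorem tcm7e_0_2 : allZ (ent2 Tm7 Em7 (selR RLm7 Im7) Dm7 (nat_lit 65535) (nat_lit 49980) (nat_lit 49980) (nat_lit 50344) (nat_lit 7) (nat_lit 524287) (nat_lit 1) (nat_lit 0)) (nat_lit 22272) (nat_lit 11136) = true := by decide +kernel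
theorem tcm7e_0_3 : allZ (ent2 Tm7 Em7 (selR RLm7 Im7) Dm7 (nat_lit 65535) (nat_lit 49980) (nat_lit 49980) (nat_lit 50344) (nat_lit 7) (nat_lit 524287) (nat_lit 1) (nat_lit 0)) (nat_lit 33408) (nat_lit 11136) = true := by decide +kernel
theorem tcm7e_0_4 : allZ (ent2 Tm7 Em7 (selR RLm7 Im7) Dm7 (nat_lit 65535) (nat_lit 49980) (nat_lit 49980) (nat_lit 50344) (nat_lit 7) (nat_lit 524287) (nat_lit 1) (nat_lit 0)) (nat_lit 44544) (nat_lit 5800) = true := by decide +kernel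
theorem tcm7e_1_0 : allZ (ent2 Tm7 Em7 (selR RLm7 Im7) Dm7 (nat_lit 65535) (nat_lit 49980) (nat_lit 49980) (nat_lit 50344) (nat_lit 7) (nat_lit 524287) (nat_lit 1) (nat_lit 1)) (nat_lit 0) (nat_lit 11776) = true := by decide +kernel
theorem tcm7e_1_1 : allZ (ent2 Tm7 Em7 (selR RLm7 Im7) Dm7 (nat_lit 65535) (nat_lit 49980) (nat_lit 49980) (nat_lit 50344) (nat_lit 7) (nat_lit 524287) (nat_lit 1) (nat_lit 1)) (nat_lit 11776) (nat_lit 11776) = true := by decide +kernel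
theorem tcm7e_1_2 : allZ (ent2 Tm7 Em7 (selR RLm7 Im7) Dm7 (nat_lit 65535) (nat_lit 49980) (nat_lit 49980) (nat_lit 50344) (nat_lit 7) (nat_lit 524287) (nat_lit 1) (nat_lit 1)) (nat_lit 23552) (nat_lit 11776) = true := by decide +kernel
theorem tcm7e_1_3 : allZ (ent2 Tm7 Em7 (selR RLm7 Im7) Dm7 (nat_lit 65535) (nat_lit 49980) (nat_lit 49980) (nat_lit 50344) (nat_lit 7) (nat_lit 524287) (nat_lit 1) (nat_lit 1)) (nat_lit 35328) (nat_lit 11776) = true := by decide +kernel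
theorem tcm7e_1_4 : allZ (ent2 Tm7 Em7 (selR RLm7 Im7) Dm7 (nat_lit 65535) (nat_lit 49980) (nat_lit 49980) (nat_lit 50344) (nat_lit 7) (nat_lit 524287) (nat_lit 1) (nat_lit 1)) (nat_lit 47104) (nat_lit 3240) = true := by decide +kernel
theorem tcm7e_2_0 : allZ (ent2 Tm7 Em7 (selR RLm7 Im7) Dm7 (nat_lit 65535) (nat_lit 49980) (nat_lit 49980) (nat_lit 50344) (nat_lit 7) (nat_lit 524287) (nat_lit 1) (nat_lit 2)) (nat_lit 0) (nat_lit 11776) = true := by decide +kernel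
theorem tcm7e_2_1 : allZ (ent2 Tm7 Em7 (selR RLm7 Im7) Dm7 (nat_lit 65535) (nat_lit 49980) (nat_lit 49980) (nat_lit 50344) (nat_lit 7) (nat_lit 524287) (nat_lit 1) (nat_lit 2)) (nat_lit 11776) (nat_lit 11776) = true := by decide +kernel
theorem tcm7e_2_2 : allZ (ent2 Tm7 Em7 (selR RLm7 Im7) Dm7 (nat_lit 65535) (nat_lit 49980) (nat_lit 49980) (nat_lit 50344) (nat_lit 7) (nat_lit 524287) (nat_lit 1) (nat_lit 2)) (nat_lit 23552) (nat_lit 11776) = true := by decide +kernel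
theorem tcm7e_2_3 : allZ (ent2 Tm7 Em7 (selR RLm7 Im7) Dm7 (nat_lit 65535) (nat_lit 49980) (nat_lit 49980) (nat_lit 50344) (nat_lit 7) (nat_lit 524287) (nat_lit 1) (nat_lit 2)) (nat_lit 35328) (nat_lit 11776) = true := by decide +kernel
theorem tcm7e_2_4 : allZ (ent2 Tm7 Em7 (selR RLm7 Im7) Dm7 (nat_lit 65535) (nat_lit 49980) (nat_lit 49980) (nat_lit 50344) (nat_lit 7) (nat_lit 524287) (nat_lit 1) (nat_lit 2)) (nat_lit 47104) (nat_lit 3240) = true := by decide +kernel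
theorem tcm7e_3_0 : allZ (ent2 Tm7 Em7 (selR RLm7 Im7) Dm7 (nat_lit 65535) (nat_lit 49980) (nat_lit 49980) (nat_lit 50344) (nat_lit 7) (nat_lit 524287) (nat_lit 1) (nat_lit 3)) (nat_lit 0) (nat_lit 11840) = true := by decide +kernel
theorem tcm7e_3_1 : allZ (ent2 Tm7 Em7 (selR RLm7 Im7) Dm7 (nat_lit 65535) (nat_lit 49980) (nat_lit 49980) (nat_lit 50344) (nat_lit 7) (nat_lit 524287) (nat_lit 1) (nat_lit 3)) (nat_lit 11840) (nat_lit 11840) = true := by decide +kernel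
theorem tcm7e_3_2 : allZ (ent2 Tm7 Em7 (selR RLm7 Im7) Dm7 (nat_lit 65535) (nat_lit 49980) (nat_lit 49980) (nat_lit 50344) (nat_lit 7) (nat_lit 524287) (nat_lit 1) (nat_lit 3)) (nat_lit 23680) (nat_lit 11840) = true := by decide +kernel
theorem tcm7e_3_3 : allZ (ent2 Tm7 Em7 (selR RLm7 Im7) Dm7 (nat_lit 65535) (nat_lit 49980) (nat_lit 49980) (nat_lit 50344) (nat_lit 7) (nat_lit 524287) (nat_lit 1) (nat_lit 3)) (nat_lit 35520) (nat_lit 11840) = true := by decide +kernel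
theorem tcm7e_3_4 : allZ (ent2 Tm7 Em7 (selR RLm7 Im7) Dm7 (nat_lit 65535) (nat_lit 49980) (nat_lit 49980) (nat_lit 50344) (nat_lit 7) (nat_lit 524287) (nat_lit 1) (nat_lit 3)) (nat_lit 47360) (nat_lit 2984) = true := by decide +kernel
theorem tcm7e_4_0 : allZ (ent2 Tm7 Em7 (selR RLm7 Im7) Dm7 (nat_lit 65535) (nat_lit 49980) (nat_lit 49980) (nat_lit 50344) (nat_lit 7) (nat_lit 524287) (nat_lit 1) (nat_lit 4)) (nat_lit 0) (nat_lit 11712) = true := by decide +kernel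
theorem tcm7e_4_1 : allZ (ent2 Tm7 Em7 (selR RLm7 Im7) Dm7 (nat_lit 65535) (nat_lit 49980) (nat_lit 49980) (nat_lit 50344) (nat_lit 7) (nat_lit 524287) (nat_lit 1) (nat_lit 4)) (nat_lit 11712) (nat_lit 11712) = true := by decide +kernel
theorem tcm7e_4_2 : allZ (ent2 Tm7 Em7 (selR RLm7 Im7) Dm7 (nat_lit 65535) (nat_lit 49980) (nat_lit 49980) (nat_lit 50344) (nat_lit 7) (nat_lit 524287) (nat_lit 1) (nat_lit 4)) (nat_lit 23424) (nat_lit 11712) = true := by decide +kernel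
theorem tcm7e_4_3 : allZ (ent2 Tm7 Em7 (selR RLm7 Im7) Dm7 (nat_lit 65535) (nat_lit 49980) (nat_lit 49980) (nat_lit 50344) (nat_lit 7) (nat_lit 524287) (nat_lit 1) (nat_lit 4)) (nat_lit 35136) (nat_lit 11712) = true := by decide +kernel
theorem tcm7e_4_4 : allZ (ent2 Tm7 Em7 (selR RLm7 Im7) Dm7 (nat_lit 65535) (nat_lit 49980) (nat_lit 49980) (nat_lit 50344) (nat_lit 7) (nat_lit 524287) (nat_lit 1) (nat_lit 4)) (nat_lit 46848) (nat_lit 3496) = true := by decide +kernel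
theorem tcm7e_5_0 : allZ (ent2 Tm7 Em7 (selR RLm7 Im7) Dm7 (nat_lit 65535) (nat_lit 49980) (nat_lit 49980) (nat_lit 50344) (nat_lit 7) (nat_lit 524287) (nat_lit 1) (nat_lit 5)) (nat_lit 0) (nat_lit 12224) = true := by decide +kernel
theorem tcm7e_5_1 : allZ (ent2 Tm7 Em7 (selR RLm7 Im7) Dm7 (nat_lit 65535) (nat_lit 49980) (nat_lit 49980) (nat_lit 50344) (nat_lit 7) (nat_lit 524287) (nat_lit 1) (nat_lit 5)) (nat_lit 12224) (nat_lit 12224) = true := by decide +kernel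
theorem tcm7e_5_2 : allZ (ent2 Tm7 Em7 (selR RLm7 Im7) Dm7 (nat_lit 65535) (nat_lit 49980) (nat_lit 49980) (nat_lit 50344) (nat_lit 7) (nat_lit 524287) (nat_lit 1) (nat_lit 5)) (nat_lit 24448) (nat_lit 12224) = true := by decide +kernel
theorem tcm7e_5_3 : allZ (ent2 Tm7 Em7 (selR RLm7 Im7) Dm7 (nat_lit 65535) (nat_lit 49980) (nat_lit 49980) (nat_lit 50344) (nat_lit 7) (nat_lit 524287) (nat_lit 1) (nat_lit 5)) (nat_lit 36672) (nat_lit 12224) = true := by decide +kernel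
theorem tcm7e_5_4 : allZ (ent2 Tm7 Em7 (selR RLm7 Im7) Dm7 (nat_lit 65535) (nat_lit 49980) (nat_lit 49980) (nat_lit 50344) (nat_lit 7) (nat_lit 524287) (nat_lit 1) (nat_lit 5)) (nat_lit 48896) (nat_lit 1448) = true := by decide +kernel
theorem tcm7e_6_0 : allZ (ent2 Tm7 Em7 (selR RLm7 Im7) Dm7 (nat_lit 65535) (nat_lit 49980) (nat_lit 49980) (nat_lit 50344) (nat_lit 7) (nat_lit 524287) (nat_lit 1) (nat_lit 6)) (nat_lit 0) (nat_lit 12160) = true := by decide +kernel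
theorem tcm7e_6_1 : allZ (ent2 Tm7 Em7 (selR RLm7 Im7) Dm7 (nat_lit 65535) (nat_lit 49980) (nat_lit 49980) (nat_lit 50344) (nat_lit 7) (nat_lit 524287) (nat_lit 1) (nat_lit 6)) (nat_lit 12160) (nat_lit 12160) = true := by decide +kernel
theorem tcm7e_6_2 : allZ (ent2 Tm7 Em7 (selR RLm7 Im7) Dm7 (nat_lit 65535) (nat_lit 49980) (nat_lit 49980) (nat_lit 50344) (nat_lit 7) (nat_lit 524287) (nat_lit 1) (nat_lit 6)) (nat_lit 24320) (nat_lit 12160) = true := by decide +kernel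
theorem tcm7e_6_3 : allZ (ent2 Tm7 Em7 (selR RLm7 Im7) Dm7 (nat_lit 65535) (nat_lit 49980) (nat_lit 49980) (nat_lit 50344) (nat_lit 7) (nat_lit 524287) (nat_lit 1) (nat_lit 6)) (nat_lit 36480) (nat_lit 12160) = true := by decide +kernel
theorem tcm7e_6_4 : allZ (ent2 Tm7 Em7 (selR RLm7 Im7) Dm7 (nat_lit 65535) (nat_lit 49980) (nat_lit 49980) (nat_lit 50344) (nat_lit 7) (nat_lit 524287) (nat_lit 1) (nat_lit 6)) (nat_lit 48640) (nat_lit 1704) = true := by decide +kernel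
theorem tcm7p_0 : allZ (eps2 Tm7 Em7 Jm7 Wm7 RLm7 (nat_lit 65535) (nat_lit 49980) (nat_lit 50344) (nat_lit 7) (nat_lit 1)) (nat_lit 0) (nat_lit 364) = true := by decide +kernel
theorem tcm7r : rulesChk Rx1 cm7.Sl RLm7 (nat_lit 7) = true := by decide +kernel
theorem tcm7n : 0 < cm7.M ∧ cm7.n0 ≤ cm7.M ∧ 0 < cm7.K ∧ cm7.K ≤ 7 ∧ cm7.D 0 = 0 := by decide +kernel
theorem tcm7q : cm7.M - cm7.n = 364 := by decide +kernel
theorem stm7 : allL (ltAll 6) cm7.Sl = true ∧ 0 < cm7.n0 ∧ cm7.K = 7 ∧ cm7.n0 * 80640 = 4030387200 := by decide +kernel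
theorem lv_6e_0 : allZ (l_6.ent (wdsP P Ws)) (nat_lit 0) (nat_lit 1) = true := by decide +kernel
theorem lv_6b : 0 < l_6.n ∧ 0 < l_6.K ∧ l_6.Pt 0 < 2058 ∧ l_6.Q (l_6.Pt 0) = 0 ∧ 0 ≤ l_6.K ∧ fixLetters (wdsP P Ws) (nat_lit 0) (l_6.Pt 0) = true := by decide +kernel
theorem lv_5e_0 : allZ (l_5.ent (wdsP P Ws)) (nat_lit 0) (nat_lit 3) = true := by decide +kernel
theorem lv_5b : 0 < l_5.n ∧ 0 < l_5.K ∧ l_5.Pt 0 < 2058 ∧ l_5.Q (l_5.Pt 0) = 0 ∧ 1 ≤ l_5.K ∧ fixLetters (wdsP P Ws) (nat_lit 1) (l_5.Pt 0) = true := by decide +kernel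
theorem lv_4e_0 : allZ (l_4.ent (wdsP P Ws)) (nat_lit 0) (nat_lit 1) = true := by decide +kernel
theorem lv_4b : 0 < l_4.n ∧ 0 < l_4.K ∧ l_4.Pt 0 < 2058 ∧ l_4.Q (l_4.Pt 0) = 0 ∧ 3 ≤ l_4.K ∧ fixLetters (wdsP P Ws) (nat_lit 3) (l_4.Pt 0) = true := by decide +kernel
theorem lv_3e_0 : allZ (l_3.ent (wdsP P Ws)) (nat_lit 0) (nat_lit 14) = true := by decide +kernel
theorem lv_3b : 0 < l_3.n ∧ 0 < l_3.K ∧ l_3.Pt 0 < 2058 ∧ l_3.Q (l_3.Pt 0) = 0 ∧ 5 ≤ l_3.K ∧ fixLetters (wdsP P Ws) (nat_lit 5) (l_3.Pt 0) = true := by decide +kernel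
theorem lv_2e_0 : allZ (l_2.ent (wdsP P Ws)) (nat_lit 0) (nat_lit 59) = true := by decide +kernel
theorem lv_2b : 0 < l_2.n ∧ 0 < l_2.K ∧ l_2.Pt 0 < 2058 ∧ l_2.Q (l_2.Pt 0) = 0 ∧ 6 ≤ l_2.K ∧ fixLetters (wdsP P Ws) (nat_lit 6) (l_2.Pt 0) = true := by decide +kernel
theorem lv_1e_0 : allZ (l_1.ent (wdsP P Ws)) (nat_lit 0) (nat_lit 135) = true := by decide +kernel
theorem lv_1b : 0 < l_1.n ∧ 0 < l_1.K ∧ l_1.Pt 0 < 2058 ∧ l_1.Q (l_1.Pt 0) = 0 ∧ 7 ≤ l_1.K ∧ fixLetters (wdsP P Ws) (nat_lit 7) (l_1.Pt 0) = true := by decide +kernel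
theorem lv_0e_0 : allZ (l_0.ent (wdsP P Ws)) (nat_lit 0) (nat_lit 2057) = true := by decide +kernel
theorem lv_0b : 0 < l_0.n ∧ 0 < l_0.K ∧ l_0.Pt 0 < 2058 ∧ l_0.Q (l_0.Pt 0) = 0 ∧ 14 ≤ l_0.K ∧ fixLetters (wdsP P Ws) (nat_lit 14) (l_0.Pt 0) = true := by decide +kernel
theorem base : chainBase L = B ∧ ltAll (nat_lit 2058) B = 0 ∧ topK L = 16 := by decide +kernel
theorem exc : allL (ltAll 7) Ws = true ∧ chainCard L = 4030387200 := by decide +kernel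
theorem trc : l_0.K = 16 ∧ l_0.n = 2058 := by decide +kernel
theorem Foe_0 : allZ (forEnt (wdsP P Ws) Fo (nat_lit 14) (nat_lit 32767) (nat_lit 2058) ((nat_lit 0) :: Rs.map Root.r)) (nat_lit 0) (nat_lit 2058) = true := by decide +kernel
theorem rtc : allL (Root.chk (wdsP P Ws) (nat_lit 16) B (nat_lit 14) (nat_lit 0)) Rs = true ∧ fixLetters (wdsP P Ws) (nat_lit 14) (nat_lit 0) = true := by decide +kernel
theorem mxc : (l_0.K = 16 ∧ topK [l_1, l_2, l_3, l_4, l_5, l_6] = (nat_lit 14) ∧ l_0.Pt 0 = (nat_lit 0)) ∧ 0 < (nat_lit 14) ∧ (nat_lit 14) ≤ 16 ∧ (nat_lit 0) < 2058 := by decide +kernel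
theorem nc1 : allZ (fun k => force k (nclEnt P Rl (nat_lit 7) B nx nL)) 0 (nat_lit 7) = true := by decide +kernel
theorem nc2 : powL P (nat_lit 7) B nx (nat_lit 7) = 0 ∧ Nat.Coprime 7 (chainCard [l_1, l_2, l_3, l_4, l_5, l_6]) ∧ 1 < l_0.n := by decide +kernel

end H16.PHe
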